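-- Team project SUG (S2412), block [Q2]: package [Q2-DIAG4] (helper9).
import Mathlib
import Cfsg.Agent.Lib.Helper6.SUG.Q2Defs

set_option autoImplicit false

namespace Cfsg.Agent.Lib.Helper9.SUG

open Cfsg.Agent.Lib.Helper60.SUG

universe u

/-- products of diagonal elements are diagonal. -/
theorem isDiag_mul {F : Type u} [Field F] {n : ℕ} (g h : ↥(Cfsg.SU n F 2)) (z z' : Fin n → F)
    (hg : Cfsg.Agent.Lib.Helper6.SUG.IsDiag g z) (hh : Cfsg.Agent.Lib.Helper6.SUG.IsDiag h z') :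
    Cfsg.Agent.Lib.Helper6.SUG.IsDiag (g * h) (z * z') := by
  unfold Cfsg.Agent.Lib.Helper6.SUG.IsDiag at *
  have : mat (g * h) = mat g * mat h := rfl
  rw [this, hg, hh, Matrix.diagonal_mul_diagonal]
  rfl

theorem isDiag_one {F : Type u} [Field F] {n : ℕ} :
    Cfsg.Agent.Lib.Helper6.SUG.IsDiag (1 : ↥(Cfsg.SU n F 2)) (fun _ => (1 : F)) := by
  unfold Cfsg.Agent.Lib.Helper6.SUG.IsDiag
  have : mat (1 : ↥(Cfsg.SU n F 2)) = 1 := rfl
  rw [this]
  exact Matrix.diagonal_one.symm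

/-- [Q2-DIAG4]. -/
theorem pkgQ2Diag4 : Cfsg.Agent.Lib.Helper6.SUG.PkgQ2Diag4.{u} := by
  intro F _ _ hF n hn K ω hω1 hω3 hP x hx
  obtain ⟨n, rfl⟩ : ∃ n' : ℕ, n = n' + 1 := ⟨n - 1, by omega⟩
  have hω0 : ω ≠ 0 := by
    rintro rfl
    simp at hω3
  have hquad : ω ^ 2 + ω + 1 = 0 := by
    have h : (ω - 1) * (ω ^ 2 + ω + 1) = 0 := by
      have : (ω - 1) * (ω ^ 2 + ω + 1) = ω ^ 3 - 1 := by ring
      rw [this, hω3, sub_self]
    rcases mul_eq_zero.mp h with h | h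
    · exact absurd (sub_eq_zero.mp h) hω1
    · exact h
  have hcube : ∀ y : F, y ≠ 0 → y = 1 ∨ y = ω ∨ y = ω ^ 2 := by
    intro y hy
    have h3 : y ^ 3 = 1 := by
      have := FiniteField.pow_card_sub_one_eq_one y hy
      rw [hF] at this
      simpa using this
    have h0 : (y - 1) * ((y - ω) * (y - ω ^ 2)) = 0 := by
      have : (y - 1) * ((y - ω) * (y - ω ^ 2))
          = (y ^ 3 - 1) - (y - 1) * y * (ω ^ 2 + ω + 1) + (y - 1) * (ω ^ 3 - 1) := by ring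
      rw [this, h3, hquad, hω3]
      ring
    rcases mul_eq_zero.mp h0 with h | h
    · exact Or.inl (sub_eq_zero.mp h)
    · rcases mul_eq_zero.mp h with h | h
      · exact Or.inr (Or.inl (sub_eq_zero.mp h))
      · exact Or.inr (Or.inr (sub_eq_zero.mp h))
  have hpv0 : ∀ (i j k : Fin (n + 1)), Cfsg.Agent.Lib.Helper6.SUG.pairVec ω i j k ≠ 0 := by
    intro i j k
    unfold Cfsg.Agent.Lib.Helper6.SUG.pairVec
    split_ifs
    · exact hω0
    · exact pow_ne_zero 2 hω0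
    · exact one_ne_zero
  have key : ∀ m : ℕ, m ≤ 4 → ∃ g ∈ K, ∃ z : Fin (n + 1) → F,
      Cfsg.Agent.Lib.Helper6.SUG.IsDiag g z ∧ (∀ k, z k ≠ 0) ∧
      ∀ k : Fin (n + 1), (k : ℕ) < m → z k = x k := by
    intro m
    induction m with
    | zero =>
      intro _
      exact ⟨1, K.one_mem, fun _ => 1, isDiag_one, fun _ => one_ne_zero,
        fun k hk => absurd hk (by omega)⟩
    | succ m ih =>
      intro hm
      obtain ⟨g, hg, z, hgz, hz0, hzk⟩ := ih (by omega)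
      have hmn : m < n + 1 := by omega
      obtain ⟨p, hp, hpd⟩ := hP ⟨m, hmn⟩
      have hrot : ((finRotate (n + 1) ⟨m, hmn⟩ : Fin (n + 1)) : ℕ) = m + 1 := by
        have hne : (⟨m, hmn⟩ : Fin (n + 1)) ≠ Fin.last n := by
          intro h
          have := congrArg Fin.val h
          simp at this
          omega
        rw [coe_finRotate_of_ne_last hne]
      have hpvlt : ∀ k : Fin (n + 1), (k : ℕ) < m →
          Cfsg.Agent.Lib.Helper6.SUG.pairVec ω ⟨m, hmn⟩ (finRotate (n + 1) ⟨m, hmn⟩) k = 1 := by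
        intro k hk
        unfold Cfsg.Agent.Lib.Helper6.SUG.pairVec
        have h1 : k ≠ ⟨m, hmn⟩ := by
          intro h
          rw [h] at hk
          exact absurd hk (lt_irrefl m)
        have h2 : k ≠ finRotate (n + 1) ⟨m, hmn⟩ := by
          intro h
          rw [h, hrot] at hk
          omega
        rw [if_neg h1, if_neg h2]
      have hpvj : Cfsg.Agent.Lib.Helper6.SUG.pairVec ω ⟨m, hmn⟩ (finRotate (n + 1) ⟨m, hmn⟩)
          ⟨m, hmn⟩ = ω := by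
        unfold Cfsg.Agent.Lib.Helper6.SUG.pairVec
        rw [if_pos rfl]
      have step : ∀ (h : ↥(Cfsg.SU (n + 1) F 2)) (y : Fin (n + 1) → F), h ∈ K →
          Cfsg.Agent.Lib.Helper6.SUG.IsDiag h y → (∀ k, y k ≠ 0) →
          (∀ k : Fin (n + 1), (k : ℕ) < m → y k = 1) →
          z ⟨m, hmn⟩ * y ⟨m, hmn⟩ = x ⟨m, hmn⟩ →
          ∃ g ∈ K, ∃ z : Fin (n + 1) → F, Cfsg.Agent.Lib.Helper6.SUG.IsDiag g z ∧
            (∀ k, z k ≠ 0) ∧ ∀ k : Fin (n + 1), (k : ℕ) < m + 1 → z k = x k := by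
        intro h y hh hhy hy0 hy1 hyj
        refine ⟨g * h, K.mul_mem hg hh, z * y, isDiag_mul _ _ _ _ hgz hhy,
          fun k => mul_ne_zero (hz0 k) (hy0 k), ?_⟩
        intro k hk
        rcases Nat.lt_succ_iff_lt_or_eq.mp hk with hk' | hk'
        · show z k * y k = x k
          rw [hy1 k hk', mul_one, hzk k hk']
        · have hkj : k = ⟨m, hmn⟩ := Fin.ext hk'
          rw [hkj]
          exact hyj
      have hr0 : x ⟨m, hmn⟩ * (z ⟨m, hmn⟩)⁻¹ ≠ 0 :=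
        mul_ne_zero (hx _ (by show m < 4; omega)) (inv_ne_zero (hz0 _))
      have hxr : ∀ r : F, x ⟨m, hmn⟩ * (z ⟨m, hmn⟩)⁻¹ = r → z ⟨m, hmn⟩ * r = x ⟨m, hmn⟩ := by
        intro r hr
        rw [← hr, mul_comm (x _) _, mul_inv_cancel_left₀ (hz0 _)]
      rcases hcube _ hr0 with h1 | h1 | h1
      · exact step 1 (fun _ => 1) K.one_mem isDiag_one (fun _ => one_ne_zero) (fun _ _ => rfl)
          (hxr 1 h1)
      · exact step p _ hp hpd (hpv0 _ _) hpvlt (by rw [hpvj]; exact hxr _ h1)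
      · refine step (p * p) _ (K.mul_mem hp hp) (isDiag_mul _ _ _ _ hpd hpd)
          (fun k => mul_ne_zero (hpv0 _ _ k) (hpv0 _ _ k)) ?_ ?_
        · intro k hk
          show Cfsg.Agent.Lib.Helper6.SUG.pairVec ω ⟨m, hmn⟩ (finRotate (n + 1) ⟨m, hmn⟩) k *
            Cfsg.Agent.Lib.Helper6.SUG.pairVec ω ⟨m, hmn⟩ (finRotate (n + 1) ⟨m, hmn⟩) k = 1
          rw [hpvlt k hk, mul_one]
        · show z ⟨m, hmn⟩ *
            (Cfsg.Agent.Lib.Helper6.SUG.pairVec ω ⟨m, hmn⟩ (finRotate (n + 1) ⟨m, hmn⟩) ⟨m, hmn⟩ *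
            Cfsg.Agent.Lib.Helper6.SUG.pairVec ω ⟨m, hmn⟩ (finRotate (n + 1) ⟨m, hmn⟩) ⟨m, hmn⟩)
            = x ⟨m, hmn⟩
          rw [hpvj, ← pow_two]
          exact hxr _ h1
  obtain ⟨g, hg, z, hgz, _, hzk⟩ := key 4 le_rfl
  exact ⟨g, hg, z, hgz, hzk⟩

end Cfsg.Agent.Lib.Helper9.SUG
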